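import Groth.Agent.Lib.HomScheme.Affine
import Groth.Agent.Lib.OpenRep26.Basic
import Groth.Agent.Lib.Pushout6.FiniteSet
import Groth.Agent.Lib.MorS6.Basic

/-!
# `Hom_S(X, Y)` for `X` finite locally free and `Y` with finite sets of points in affine opens
-/

set_option autoImplicit false
set_option backward.isDefEq.respectTransparency false
set_option linter.style.haveILetI false

universe u

open CategoryTheory CategoryTheory.Limits MonoidalCategory CartesianMonoidalCategory AlgebraicGeometry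
open scoped TensorProduct

noncomputable section

namespace GrothLib.HomAF8

open GrothLib.RepLocal GrothLib.HomScheme

variable {S : Scheme.{u}}

section affine

variable {R : Type u} [CommRing R] (j : Spec (CommRingCat.of R) ⟶ S)

/-- The Weil restriction of a scheme affine over a chart of the base. -/
theorem exists_affine_rep' [Mono j] (X Y : Over S) [IsFinite X.hom] [Flat X.hom] [LocallyOfFinitePresentation X.hom]
    {B : Type u} [CommRing B] [Algebra R B] (b : specOver j B ⟶ Y)
    (hb : IsPullback b.left (Spec.map (CommRingCat.ofHom (algebraMap R B))) Y.hom j) :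
    ∃ (W : Type u) (_ : CommRing W) (_ : Algebra R W) (n : X ⊗ specOver j W ⟶ Y),
      (∀ (C : Type u) [CommRing C] [Algebra R C] (φ : X ⊗ specOver j C ⟶ Y),
        ∃! v : specOver j C ⟶ specOver j W, (X ◁ v) ≫ n = φ) := by
  obtain ⟨A, _, _, a, ha⟩ := exists_chart j X
  haveI : Module.Finite R A := RingHom.finite_algebraMap.mp
    ((IsFinite.SpecMap_iff _).mp (MorphismProperty.of_isPullback (P := @IsFinite) ha inferInstance))
  haveI : Module.Flat R A := RingHom.flat_algebraMap_iff.mp
    (Flat.SpecMap_iff.mp (MorphismProperty.of_isPullback (P := @Flat) ha inferInstance))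
  haveI : Algebra.FinitePresentation R A := RingHom.finitePresentation_algebraMap.mp
    ((HasRingHomProperty.Spec_iff (P := @LocallyOfFinitePresentation)).mp
      (MorphismProperty.of_isPullback (P := @LocallyOfFinitePresentation) ha inferInstance))
  haveI : Module.FinitePresentation R A := Module.FinitePresentation.of_finite_of_finitePresentation R A
  haveI : Module.Projective R A := Module.Flat.projective_of_finitePresentation
  obtain ⟨W, _, _, θ, hθ, -, -⟩ := WeilAffine.exists_weil R A B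
  haveI := isIso_prodLift j a ha W
  refine ⟨W, inferInstance, inferInstance, inv (prodLift j a W) ≫ specHom j θ ≫ b, fun C _ _ φ => ?_⟩
  haveI := isIso_prodLift j a ha C
  obtain ⟨f, hf, hfu⟩ := existsUnique_chart_lift j b hb (prodLift j a C ≫ φ)
  obtain ⟨g, hg, hgu⟩ := hθ C f
  have key : ∀ g' : W →ₐ[R] C, prodLift j a C ≫ (X ◁ specHom j g') ≫ inv (prodLift j a W) ≫ specHom j θ ≫ b =
      specHom j ((Algebra.TensorProduct.map (AlgHom.id R A) g').comp θ) ≫ b := fun g' => by
    rw [← Category.assoc, prodLift_natural, Category.assoc, IsIso.hom_inv_id_assoc, ← Category.assoc,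
      specHom_comp]
  refine ⟨specHom j g, ?_, fun v hv => ?_⟩
  · change (X ◁ specHom j g) ≫ _ = φ
    rw [← cancel_epi (prodLift j a C), key, hg, hf]
  · obtain ⟨g', rfl⟩ := specHom_surjective j v
    exact congrArg (specHom j) (hgu g' (hfu _ (show _ = _ by rw [← key g', hv])))

end affine

variable (X Y : Over S) [IsFinite X.hom] [Flat X.hom] [LocallyOfFinitePresentation X.hom]

/-- An affine open of `Y` over an affine open of the base. -/
structure Idx where
  /-- the open of the base -/
  V : S.affineOpens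
  /-- the open of `Y` -/
  U : Y.left.affineOpens
  le : U.1 ≤ Y.hom ⁻¹ᵁ V.1

variable {Y}

/-- The chart of `Y`. -/
abbrev Idx.sub (i : Idx Y) : Over S := opn Y i.U.1

theorem exists_local (i : Idx Y) :
    ∃ (N : Over S) (n : (homPsh X i.sub).obj N), RepOn (homPsh X i.sub) i.V.1 N n := by
  have hV : IsAffineOpen i.V.1 := i.V.2
  have hU : IsAffineOpen i.U.1 := i.U.2
  haveI : IsAffine i.U.1.toScheme := hU
  haveI : Mono hV.fromSpec := inferInstance
  let φ := Y.hom.appLE i.V.1 i.U.1 i.le
  letI : Algebra Γ(S, i.V.1) Γ(Y.left, i.U.1) := φ.hom.toAlgebra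
  have hb0 : Spec.map φ ≫ hV.fromSpec = hU.fromSpec ≫ Y.hom :=
    IsAffineOpen.SpecMap_appLE_fromSpec Y.hom hV hU i.le
  let b : specOver hV.fromSpec Γ(Y.left, i.U.1) ⟶ i.sub := Over.homMk hU.isoSpec.inv (by
    change hU.isoSpec.inv ≫ i.U.1.ι ≫ Y.hom = Spec.map φ ≫ hV.fromSpec
    rw [hb0, hU.isoSpec_inv_ι_assoc])
  have hb : IsPullback b.left (Spec.map (CommRingCat.ofHom (algebraMap Γ(S, i.V.1) Γ(Y.left, i.U.1))))
      i.sub.hom hV.fromSpec := by
    refine ⟨⟨Over.w b⟩, ⟨PullbackCone.IsLimit.mk _ (fun s => s.fst ≫ hU.isoSpec.hom) (fun s => ?_)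
      (fun s => ?_) (fun s m h₁ h₂ => ?_)⟩⟩
    · change (s.fst ≫ hU.isoSpec.hom) ≫ hU.isoSpec.inv = s.fst
      rw [Category.assoc, Iso.hom_inv_id, Category.comp_id]
    · rw [← cancel_mono hV.fromSpec, s.condition.symm]
      change ((s.fst ≫ hU.isoSpec.hom) ≫ Spec.map φ) ≫ hV.fromSpec = s.fst ≫ i.U.1.ι ≫ Y.hom
      simp only [Category.assoc]
      rw [hb0, ← hU.isoSpec_inv_ι]
      simp only [Category.assoc, Iso.hom_inv_id_assoc]
    · rw [← h₁]
      change m = (m ≫ hU.isoSpec.inv) ≫ hU.isoSpec.hom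
      rw [Category.assoc, Iso.inv_hom_id, Category.comp_id]
  obtain ⟨W, _, _, n, hn⟩ := exists_affine_rep' hV.fromSpec X i.sub b hb
  let w := Spec.map (CommRingCat.ofHom (algebraMap Γ(S, i.V.1) W))
  have hw : (w ≫ hV.isoSpec.inv) ≫ i.V.1.ι = (specOver hV.fromSpec W).hom := by
    rw [Category.assoc, hV.isoSpec_inv_ι]
    rfl
  refine ⟨specOver hV.fromSpec W, n, repOn_of_affine (isSheaf_homPsh X i.sub) _ _ _ ⟨_, hw⟩
    fun T hT hTV ψ => ?_⟩
  obtain ⟨q, hq⟩ := hTV
  haveI := hT
  obtain ⟨C, _, _, ⟨e⟩⟩ := exists_iso_specOver hV.fromSpec T (q ≫ hV.isoSpec.hom) (by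
    rw [← hV.isoSpec_inv_ι, Category.assoc, Iso.hom_inv_id_assoc, hq])
  obtain ⟨v, hv, hvu⟩ := hn C ((X ◁ e.inv) ≫ ψ)
  refine ⟨e.hom ≫ v, ?_, fun v' hv' => ?_⟩
  · change (X ◁ (e.hom ≫ v)) ≫ n = ψ
    rw [MonoidalCategory.whiskerLeft_comp, Category.assoc, hv, ← Category.assoc,
      ← MonoidalCategory.whiskerLeft_comp, e.hom_inv_id, MonoidalCategory.whiskerLeft_id, Category.id_comp]
  · have h : e.inv ≫ v' = v := hvu _ (by
      change (X ◁ (e.inv ≫ v')) ≫ n = _
      rw [MonoidalCategory.whiskerLeft_comp, Category.assoc]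
      exact congrArg _ hv')
    rw [← h, Iso.hom_inv_id_assoc]

/-- The points of `T` over which a morphism `X ⊗ T ⟶ Y` factors through the chart. -/
def locus (i : Idx Y) {T : Over S} (x : X ⊗ T ⟶ Y) : T.left.Opens :=
  ⟨T.hom ⁻¹' (i.V.1 : Set S) ∩ ((snd X T).left '' (x.left ⁻¹' (i.U.1 : Set Y.left)ᶜ))ᶜ, by
    haveI : IsFinite (snd X T).left := MorphismProperty.pullback_snd _ _ inferInstance
    refine (i.V.1.2.preimage T.hom.continuous).inter (isOpen_compl_iff.mpr ?_)
    exact (snd X T).left.isClosedMap _ (i.U.1.2.isClosed_compl.preimage x.left.continuous)⟩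

omit [IsFinite X.hom] [Flat X.hom] [LocallyOfFinitePresentation X.hom] in
theorem isPullback_whiskerLeft {T T' : Over S} (g : T' ⟶ T) :
    IsPullback (X ◁ g).left (snd X T').left (snd X T).left g.left := by
  refine IsPullback.of_right ?_ ?_ (IsPullback.of_hasPullback X.hom T.hom)
  · have h : (X ◁ g).left ≫ pullback.fst X.hom T.hom = pullback.fst X.hom T'.hom :=
      congrArg (fun t => t.left) (whiskerLeft_fst X g)
    rw [h, Over.w g]
    exact IsPullback.of_hasPullback _ _
  · exact congrArg (fun t => t.left) (whiskerLeft_snd X g)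

/-- `Hom_S(X, Y)` is representable. -/
theorem exists_hom (hAF : ∀ (s : S) (d : ℕ) (x : Fin d → ↥Y.left), (∀ k, Y.hom (x k) = s) →
      ∃ U : Y.left.Opens, IsAffineOpen U ∧ ∀ k, x k ∈ U) :
    ∃ (M : Over S) (ev : X ⊗ M ⟶ Y), ∀ (T : Over S) (φ : X ⊗ T ⟶ Y), ∃! v : T ⟶ M, (X ◁ v) ≫ ev = φ := by
  classical
  choose N n hN using exists_local (Y := Y) X
  let jι : ∀ i : Idx Y, i.sub ⟶ Y := fun i => opnι Y i.U.1
  let 𝔄 : GrothLib.OpenRep26.Chart (homPsh X Y) :=
    { idx := Idx Y
      N := N
      n := fun i => n i ≫ jι i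
      inj := fun i T a a' h => by
        change (X ◁ a) ≫ n i ≫ jι i = (X ◁ a') ≫ n i ≫ jι i at h
        rw [← Category.assoc, ← Category.assoc, cancel_mono (jι i)] at h
        exact ((hN i).2 T ((hN i).1.of_hom a) _).unique rfl h.symm
      loc := fun T x i => locus X i x
      mem_loc := fun T x i T' g => by
        constructor
        · intro hg
          have hV : Inside T' i.V.1 := by
            refine ⟨IsOpenImmersion.lift i.V.1.ι T'.hom ?_, IsOpenImmersion.lift_fac _ _ _⟩
            rintro _ ⟨t, rfl⟩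
            rw [Scheme.Opens.range_ι, ← Over.w g, Scheme.Hom.comp_apply]
            exact (hg ⟨t, rfl⟩).1
          have hU : Set.range ((X ◁ g) ≫ x).left ⊆ Set.range (jι i).left := by
            rintro _ ⟨p, rfl⟩
            refine (Scheme.Opens.range_ι i.U.1).ge ?_
            by_contra hp
            refine (hg ⟨(snd X T').left p, rfl⟩).2 ⟨(X ◁ g).left p, hp, ?_⟩
            rw [← Scheme.Hom.comp_apply, (isPullback_whiskerLeft X g).w, Scheme.Hom.comp_apply]
          haveI : IsOpenImmersion (jι i).left := inferInstanceAs (IsOpenImmersion i.U.1.ι)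
          let ψ : X ⊗ T' ⟶ i.sub := Over.homMk (IsOpenImmersion.lift (jι i).left ((X ◁ g) ≫ x).left hU)
            (by rw [← Over.w (jι i), IsOpenImmersion.lift_fac_assoc]; exact Over.w ((X ◁ g) ≫ x))
          obtain ⟨a, ha, -⟩ := (hN i).2 T' hV ψ
          refine ⟨a, ?_⟩
          change (X ◁ a) ≫ n i ≫ jι i = (X ◁ g) ≫ x
          rw [← Category.assoc]
          change (homPsh X i.sub).map a (n i) ≫ jι i = _
          rw [ha]
          exact Over.OverMorphism.ext (IsOpenImmersion.lift_fac _ _ _)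
        · rintro ⟨a, ha⟩ _ ⟨t, rfl⟩
          obtain ⟨q, hq⟩ := (hN i).1.of_hom a
          refine ⟨?_, ?_⟩
          · change T.hom (g.left t) ∈ i.V.1
            rw [← Scheme.Hom.comp_apply, Over.w g, ← hq, Scheme.Hom.comp_apply]
            exact (q t).2
          · rintro ⟨z, hz, hzt⟩
            have hsq := isPullback_whiskerLeft X g
            obtain ⟨p, hp⟩ : z ∈ Set.range (X ◁ g).left := by
              rw [← hsq.isoPullback_hom_fst, Scheme.Hom.comp_base, TopCat.coe_comp, Set.range_comp,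
                Set.range_eq_univ.2 hsq.isoPullback.hom.surjective, Set.image_univ, Scheme.Pullback.range_fst]
              exact ⟨t, hzt.symm⟩
            refine hz ?_
            rw [← hp, ← Scheme.Hom.comp_apply, ← Over.comp_left]
            change (((X ◁ g) ≫ x).left p) ∈ i.U.1
            have ha' : (X ◁ a) ≫ n i ≫ jι i = (X ◁ g) ≫ x := ha
            rw [← ha', ← Category.assoc, Over.comp_left, Scheme.Hom.comp_apply]
            exact (((X ◁ a) ≫ n i).left p).2
      cover := fun T x p => by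
        haveI : IsFinite (snd X T).left := MorphismProperty.pullback_snd _ _ inferInstance
        obtain ⟨V, hV, hsV, -⟩ := exists_isAffineOpen_mem_and_subset (TopologicalSpace.Opens.mem_top (T.hom p))
        let E : Set Y.left := x.left '' ((snd X T).left ⁻¹' {p})
        have hE : E.Finite := ((snd X T).left.finite_preimage_singleton p).image _
        have hEs : ∀ y ∈ E, Y.hom y = T.hom p := by
          rintro _ ⟨z, hz, rfl⟩
          rw [← Scheme.Hom.comp_apply, Over.w x, ← Over.w (snd X T), Scheme.Hom.comp_apply,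
            show (snd X T).left z = p from hz]
        obtain ⟨U₀, hU₀, hEU⟩ := hAF (T.hom p) hE.toFinset.card
          (fun k => (hE.toFinset.equivFin.symm k).1)
          (fun k => hEs _ (hE.mem_toFinset.mp (hE.toFinset.equivFin.symm k).2))
        have hEU' : E ⊆ (U₀ : Set Y.left) := fun y hy => by
          simpa using hEU (hE.toFinset.equivFin ⟨y, hE.mem_toFinset.mpr hy⟩)
        obtain ⟨r, hr, hrE⟩ := GrothLib.Pushout6.exists_basicOpen_of_finite hU₀ (W := Y.hom ⁻¹ᵁ V) hE hEU'
          (fun y hy => by change Y.hom y ∈ V; rw [hEs y hy]; exact hsV)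
        refine ⟨⟨⟨V, hV⟩, ⟨_, hU₀.basicOpen r⟩, hr⟩, hsV, ?_⟩
        rintro ⟨z, hz, hzp⟩
        exact hz (hrE ⟨z, hzp, rfl⟩) }
  obtain ⟨M, m, hM⟩ := 𝔄.exists_representing (isSheaf_homPsh X Y)
  exact ⟨M, m, hM⟩

/-- `Mor_S(Z, X)` is representable for `Z` finite locally free and finite sets of points in fibres
of `X` in affine opens. -/
theorem morS_isRepresentable {Z W : Scheme.{u}} (g : Z ⟶ S) (f : W ⟶ S) (hg : Mor2.IsFinLocFree g)
    (hAF : ∀ (s : S) (d : ℕ) (x : Fin d → ↥W), (∀ k, f (x k) = s) →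
      ∃ U : W.Opens, IsAffineOpen U ∧ ∀ k, x k ∈ U) :
    (Flatn.morS g f).IsRepresentable := by
  obtain ⟨h1, h2, h3⟩ := hg
  haveI : IsFinite (Over.mk g).hom := h1
  haveI : Flat (Over.mk g).hom := h2
  haveI : LocallyOfFinitePresentation (Over.mk g).hom := h3
  obtain ⟨M, ev, hM⟩ := exists_hom (Over.mk g) (Y := Over.mk f) hAF
  let φ : ∀ {T : Over S}, (T ⟶ M) → (Flatn.morS g f).obj (Opposite.op T) := fun {T} v =>
    (GrothLib.MorS6.swapIso g T).hom ≫ (Over.mk g ◁ v) ≫ ev
  have hφ : ∀ T : Over S, Function.Bijective (φ (T := T)) := fun T => by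
    refine ⟨fun v v' h => (hM T _).unique ((Iso.cancel_iso_hom_left _ _ _).1 h) rfl, fun b => ?_⟩
    obtain ⟨v, hv, -⟩ := hM T ((GrothLib.MorS6.swapIso g T).inv ≫ b)
    exact ⟨v, by simp only [φ, hv]; exact Iso.hom_inv_id_assoc _ _⟩
  refine Functor.RepresentableBy.isRepresentable
    ({ homEquiv := fun {T} => Equiv.ofBijective _ (hφ T), homEquiv_comp := ?_ } :
      (Flatn.morS g f).RepresentableBy M)
  intro T T' a v
  show (GrothLib.MorS6.swapIso g T).hom ≫ (Over.mk g ◁ (a ≫ v)) ≫ ev =
    (Over.map g).map ((Over.pullback g).map a) ≫ (GrothLib.MorS6.swapIso g T').hom ≫ (Over.mk g ◁ v) ≫ ev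
  rw [MonoidalCategory.whiskerLeft_comp, Category.assoc, ← Category.assoc (GrothLib.MorS6.swapIso g T).hom,
    ← GrothLib.MorS6.swapIso_natural, Category.assoc]

end GrothLib.HomAF8
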